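import Mathlib

/-!
# Homotopy invariance of the Picard group for integrally closed domains
-/

universe u

namespace GradedPicLib

open Polynomial

variable {A : Type u} [CommRing A] [IsDomain A] [IsIntegrallyClosed A]
variable {K : Type u} [Field K] [Algebra A K] [IsFractionRing A K]

omit [IsDomain A] in
/-- Gauss' lemma in the form of Kronecker. -/
theorem coeff_mul_coeff_mem (f g : K[X])
    (h : ∀ n, (f * g).coeff n ∈ (algebraMap A K).range) (j k : ℕ) :
    f.coeff j * g.coeff k ∈ (algebraMap A K).range := by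
  classical
  by_contra hx
  have : IsIntegrallyClosedIn (algebraMap A K).range K := Subring.isIntegrallyClosedIn_iff.2 fun {x} hint => by
    obtain ⟨p, hp, hpx⟩ := hint
    obtain ⟨q, hq, -, hqm⟩ := Polynomial.lifts_and_natDegree_eq_and_monic (f := (algebraMap A K).rangeRestrict)
      ((Polynomial.lifts_iff_coeff_lifts p).2 fun n => (algebraMap A K).rangeRestrict_surjective _) hp
    have : IsIntegral A x := ⟨q, hqm, by rwa [← hq, Polynomial.eval₂_map] at hpx⟩
    exact IsIntegrallyClosed.isIntegral_iff.1 this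
  obtain ⟨V, hV, hxV⟩ := Subring.exists_le_valuationSubring_of_isIntegrallyClosedIn hx
  let v := V.valuation
  have hjs : j ∈ f.support := mem_support_iff.2 fun h0 => hx ⟨0, by simp [h0]⟩
  have hks : k ∈ g.support := mem_support_iff.2 fun h0 => hx ⟨0, by simp [h0]⟩
  obtain ⟨j₁, hj₁, hjmax⟩ := f.support.exists_max_image (fun i => v (f.coeff i)) ⟨j, hjs⟩
  obtain ⟨k₁, hk₁, hkmax⟩ := g.support.exists_max_image (fun i => v (g.coeff i)) ⟨k, hks⟩
  have hM0 : v (f.coeff j₁) ≠ 0 := (map_ne_zero v).2 (mem_support_iff.1 hj₁)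
  have hL0 : v (g.coeff k₁) ≠ 0 := (map_ne_zero v).2 (mem_support_iff.1 hk₁)
  have hfle : ∀ i, v (f.coeff i) ≤ v (f.coeff j₁) := fun i => by
    by_cases hi : i ∈ f.support
    · exact hjmax i hi
    · simp [notMem_support_iff.1 hi]
  have hgle : ∀ i, v (g.coeff i) ≤ v (g.coeff k₁) := fun i => by
    by_cases hi : i ∈ g.support
    · exact hkmax i hi
    · simp [notMem_support_iff.1 hi]
  have ej : ∃ i, v (f.coeff i) = v (f.coeff j₁) := ⟨j₁, rfl⟩
  have ek : ∃ i, v (g.coeff i) = v (g.coeff k₁) := ⟨k₁, rfl⟩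
  have hj0 := Nat.find_spec ej
  have hk0 := Nat.find_spec ek
  set M := v (f.coeff j₁)
  set L := v (g.coeff k₁)
  set j₀ := Nat.find ej
  set k₀ := Nat.find ek
  have hlt : ∀ p ∈ (Finset.HasAntidiagonal.antidiagonal (j₀ + k₀)).erase (j₀, k₀),
      v (f.coeff p.1 * g.coeff p.2) < M * L := by
    rintro ⟨p, q⟩ hpq
    rw [Finset.mem_erase, Finset.HasAntidiagonal.mem_antidiagonal] at hpq
    obtain ⟨hne, hsum⟩ := hpq
    simp only at hsum ⊢
    rw [map_mul]
    rcases lt_trichotomy p j₀ with hp | hp | hp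
    · exact (mul_le_mul' le_rfl (hgle q)).trans_lt
        (mul_lt_mul_of_pos_right (lt_of_le_of_ne (hfle p) (Nat.find_min ej hp)) (zero_lt_iff.2 hL0))
    · exact absurd (Prod.ext hp (by simp only; omega)) hne
    · exact (mul_le_mul' (hfle p) le_rfl).trans_lt (mul_lt_mul_of_pos_left
        (lt_of_le_of_ne (hgle q) (Nat.find_min ek (show q < k₀ by omega))) (zero_lt_iff.2 hM0))
  have htot : v ((f * g).coeff (j₀ + k₀)) = M * L := by
    rw [coeff_mul, ← Finset.add_sum_erase _ _ (Finset.HasAntidiagonal.mem_antidiagonal.2 rfl :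
      (j₀, k₀) ∈ Finset.HasAntidiagonal.antidiagonal (j₀ + k₀))]
    have h1 : v (f.coeff j₀ * g.coeff k₀) = M * L := by rw [map_mul, hj0, hk0]
    rw [Valuation.map_add_eq_of_lt_left, h1]
    rw [h1]
    exact v.map_sum_lt (mul_ne_zero hM0 hL0) hlt
  have hle : M * L ≤ 1 := htot ▸ (V.valuation_le_one_iff _).2 (hV (h _))
  refine hxV ((V.valuation_le_one_iff _).1 ?_)
  rw [map_mul]
  exact (mul_le_mul' (hfle j) (hgle k)).trans hle

attribute [local instance] Polynomial.algebra in
/-- The Picard group of an integrally closed domain is homotopy invariant. -/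
theorem mapRingHom_C_surjective :
    Function.Surjective (CommRing.Pic.mapRingHom (C : A →+* A[X])) := by
  intro P
  let K := FractionRing A
  have : FaithfulSMul A K := (faithfulSMul_iff_algebraMap_injective _ _).2 (IsFractionRing.injective A K)
  have halg : algebraMap A[X] K[X] = mapRingHom (algebraMap A K) := rfl
  have : FaithfulSMul A[X] K[X] := (faithfulSMul_iff_algebraMap_injective _ _).2
    (by rw [halg]; exact map_injective _ (IsFractionRing.injective A K))
  have : IsScalarTower A A[X] K[X] := IsScalarTower.of_algebraMap_eq fun a => by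
    simp [halg, Polynomial.algebraMap_apply]
  have hP : P ∈ CommRing.relPic A[X] K[X] := by rw [CommRing.relPic_eq_top]; trivial
  rw [← Submodule.range_unitsToPic] at hP
  obtain ⟨U, rfl⟩ := hP
  let cs : Submodule A[X] K[X] → Submodule A K := fun W =>
    Submodule.span A {c | ∃ f ∈ W, ∃ i, f.coeff i = c}
  have hone : ∀ x : K[X], x ∈ (1 : Submodule A[X] K[X]) ↔ ∀ n, x.coeff n ∈ (algebraMap A K).range := by
    intro x
    rw [Submodule.mem_one]
    refine ⟨?_, fun hx => ?_⟩
    · rintro ⟨y, rfl⟩ n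
      exact ⟨y.coeff n, by rw [halg, coe_mapRingHom, coeff_map]⟩
    · obtain ⟨y, hy⟩ := (Polynomial.mem_lifts x).1 ((Polynomial.lifts_iff_coeff_lifts x).2 fun n => hx n)
      exact ⟨y, hy⟩
  have hprod : cs U.1 * cs U⁻¹.1 ≤ 1 := by
    simp only [cs]
    rw [Submodule.span_mul_span, Submodule.span_le]
    rintro _ ⟨a, ⟨f, hf, i, rfl⟩, b, ⟨g, hg, k, rfl⟩, rfl⟩
    have h1 : f * g ∈ (1 : Submodule A[X] K[X]) := U.mul_inv ▸ Submodule.mul_mem_mul hf hg
    exact Submodule.mem_one.2 (coeff_mul_coeff_mem f g ((hone _).1 h1) i k)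
  have hge : (1 : Submodule A K) ≤ cs U.1 * cs U⁻¹.1 := by
    rw [Submodule.one_eq_span, Submodule.span_le, Set.singleton_subset_iff]
    have key : ∀ x ∈ U.1 * U⁻¹.1, ∀ n, x.coeff n ∈ cs U.1 * cs U⁻¹.1 := by
      intro x hx
      induction hx using Submodule.mul_induction_on' with
      | mem_mul_mem f hf g hg =>
        intro n
        rw [coeff_mul]
        exact Submodule.sum_mem _ fun p _ => Submodule.mul_mem_mul
          (Submodule.subset_span ⟨f, hf, p.1, rfl⟩) (Submodule.subset_span ⟨g, hg, p.2, rfl⟩)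
      | add x hx y hy ihx ihy => intro n; rw [coeff_add]; exact add_mem (ihx n) (ihy n)
    have := key 1 (by rw [U.mul_inv]; exact Submodule.one_le.1 le_rfl) 0
    simpa using this
  let I : (Submodule A K)ˣ :=
    ⟨cs U.1, cs U⁻¹.1, le_antisymm hprod hge, mul_comm (cs U.1) _ ▸ le_antisymm hprod hge⟩
  have hCU : ∀ c ∈ I.1, C c ∈ U.1 := by
    intro c hc
    have h1 : Submodule.span A[X] {C c} * U⁻¹.1 ≤ 1 := by
      rw [Submodule.mul_le]
      intro x hx g hg
      obtain ⟨r, rfl⟩ := Submodule.mem_span_singleton.1 hx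
      rw [smul_mul_assoc]
      refine Submodule.smul_mem _ _ ((hone _).2 fun n => ?_)
      rw [coeff_C_mul]
      have : c * g.coeff n ∈ cs U.1 * cs U⁻¹.1 :=
        Submodule.mul_mem_mul hc (Submodule.subset_span ⟨g, hg, n, rfl⟩)
      exact Submodule.mem_one.1 (hprod this)
    have h2 : Submodule.span A[X] {C c} * U⁻¹.1 * U.1 ≤ 1 * U.1 := mul_le_mul' h1 le_rfl
    rw [mul_assoc, U.inv_mul, mul_one, one_mul] at h2
    exact h2 (Submodule.mem_span_singleton_self _)
  let g : I.1 →ₗ[A] U.1 :=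
    { toFun := fun c => ⟨C (c : K), hCU c c.2⟩
      map_add' := fun a b => Subtype.ext (by simp)
      map_smul' := fun r a => Subtype.ext (by
        simp [Algebra.smul_def, Polynomial.algebraMap_apply]) }
  let Φ : TensorProduct A A[X] I.1 →ₗ[A[X]] U.1 := g.liftBaseChange A[X]
  have hsurj : Function.Surjective Φ := by
    intro ⟨f, hf⟩
    have hmem : ∀ i, monomial i (f.coeff i) ∈ (LinearMap.range Φ).map U.1.subtype := by
      intro i
      refine ⟨X ^ i • g ⟨f.coeff i, Submodule.subset_span ⟨f, hf, i, rfl⟩⟩, ⟨(X ^ i) ⊗ₜ _, by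
        exact LinearMap.liftBaseChange_tmul A[X] g _ _⟩, ?_⟩
      change (X : A[X]) ^ i • (C (f.coeff i) : K[X]) = monomial i (f.coeff i)
      rw [Algebra.smul_def, halg, coe_mapRingHom, Polynomial.map_pow, map_X, ← C_mul_X_pow_eq_monomial, mul_comm]
    have : f ∈ (LinearMap.range Φ).map U.1.subtype := by
      rw [f.as_sum_support]
      exact Submodule.sum_mem _ fun i _ => hmem i
    obtain ⟨y, ⟨z, rfl⟩, hy⟩ := this
    exact ⟨z, Subtype.ext hy⟩
  have : Module.Invertible A I.1 := Module.Invertible.left (Submodule.tensorInvEquiv I)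
  refine ⟨Submodule.unitsToPic A K I, ?_⟩
  rw [← Polynomial.algebraMap_eq, CommRing.Pic.mapRingHom_algebraMap, Submodule.unitsToPic_apply,
    Submodule.unitsToPic_apply, CommRing.Pic.mapAlgebra_apply, CommRing.Pic.mk_eq_mk_iff]
  exact ⟨(TensorProduct.AlgebraTensorModule.congr (LinearEquiv.refl A[X] A[X]) (CommRing.Pic.mk.linearEquiv A I.1)).trans
    (LinearEquiv.ofBijective Φ (Module.Invertible.bijective_of_surjective hsurj))⟩

end GradedPicLib
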